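import Groth.Agent.Neron.K696.BddProj
import Groth.Agent.S1866

/-!
# The rational points of an abelian variety are bounded
-/

set_option autoImplicit false

universe u

open CategoryTheory CategoryTheory.Limits AlgebraicGeometry MonObj MonoidalCategory CartesianMonoidalCategory

namespace K203.BddAV

open K131.Bdd

/-- Charts of an open subscheme which is everything. -/
noncomputable def topCharts {K : Type u} [Field K] {X : Scheme.{u}} {a : X ⟶ Spec (CommRingCat.of K)}
    (Y : Charts ((⊤ : X.Opens).ι ≫ a)) : Charts a where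
  n := Y.n
  D := Y.D
  ring := Y.ring
  alg := Y.alg
  u i := Y.u i ≫ (⊤ : X.Opens).ι
  m := Y.m
  x := Y.x
  adjoin := Y.adjoin
  isOpenImmersion i := by
    have := Y.isOpenImmersion i
    infer_instance
  «over» i := by
    rw [Category.assoc]
    exact Y.over i

theorem bdd_of_top {R K : Type u} [CommRing R] [Field K] [Algebra R K] {X : Scheme.{u}}
    {a : X ⟶ Spec (CommRingCat.of K)} (h : Bdd R ((⊤ : X.Opens).ι ≫ a) (fun _ => True)) :
    Bdd R a (fun _ => True) := by
  obtain ⟨Y, hY⟩ := h
  refine ⟨topCharts Y, fun c hc _ => ?_⟩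
  have h1 : (c ≫ X.topIso.inv) ≫ (⊤ : X.Opens).ι ≫ a = 𝟙 _ := by
    rw [Category.assoc, ← Scheme.topIso_hom, Iso.inv_hom_id_assoc, hc]
  obtain ⟨i, δ, h2, h3, h4⟩ := hY _ h1 trivial
  refine ⟨i, δ, h2, h3, ?_⟩
  change Spec.map (CommRingCat.ofHom δ) ≫ Y.u i ≫ (⊤ : X.Opens).ι = c
  rw [← Category.assoc, h4, Category.assoc, ← Scheme.topIso_hom, Iso.inv_hom_id, Category.comp_id]

/-- **Rational points of a projective scheme are bounded.** -/
theorem bdd_proj {R L : Type u} [CommRing R] [IsDomain R] [IsDiscreteValuationRing R] [HenselianLocalRing R]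
    (hR : EGA4.IsExcellent R) [Field L] [Algebra R L] [IsFractionRing R L] {n : ℕ} {Z : Scheme.{u}}
    (j : Z ⟶ CohB1.ProjSpace n L) [IsClosedImmersion j] :
    Bdd R (j ≫ CohB1.ProjSpace.toSpec n L) (fun _ => True) :=
  bdd_of_top (K696.BddProj.bdd_of_proj hR j ⊤ fun _ _ => Set.subset_univ _)

/-- (ABV) the rational points of an abelian variety are bounded. -/
theorem bdd_abelian {R L : Type u} [CommRing R] [IsDomain R] [IsDiscreteValuationRing R] [HenselianLocalRing R]
    (hR : EGA4.IsExcellent R) [Field L] [Algebra R L] [IsFractionRing R L] (A : Over (Spec (CommRingCat.of L)))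
    [GrpObj A] [IsProper A.hom] [GeometricallyIntegral A.hom] : Bdd R A.hom (fun _ => True) := by
  obtain ⟨n, j, hj, hja⟩ := Groth.Agent.S1866.result L A
  have h := bdd_proj hR j
  rwa [hja] at h

end K203.BddAV
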